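import Groth.Agent.Weighting.SplitAlg
import Mathlib.FieldTheory.PurelyInseparable.Basic
import Mathlib.FieldTheory.PurelyInseparable.PerfectClosure
import Mathlib.FieldTheory.IsAlgClosed.Basic
import Mathlib.FieldTheory.PrimitiveElement

/-!
# Geometric points of an integral algebra over a prime with finitely many separably finite points
-/

universe u

set_option linter.style.haveILetI false

open IntermediateField

namespace Groth.Agent.EtSplit1380

/-- A prime of an integral algebra over the kernel of a geometric point is a geometric point. -/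
theorem exists_hom_of_prime {R A : Type u} [CommRing R] [CommRing A] [Algebra R A] [Algebra.IsIntegral R A]
    {Ω : Type u} [Field Ω] [IsAlgClosed Ω] (v : R →+* Ω) (r : Ideal A) [r.IsPrime]
    (hr : r.comap (algebraMap R A) = RingHom.ker v) :
    ∃ η : A →+* Ω, η.comp (algebraMap R A) = v ∧ RingHom.ker η = r := by
  let P := r.comap (algebraMap R A)
  haveI : r.LiesOver P := ⟨rfl⟩
  let vb : R ⧸ P →+* Ω := Ideal.Quotient.lift P v fun x hx => by
    rwa [show P = RingHom.ker v from hr, RingHom.mem_ker] at hx
  have hvb : Function.Injective vb :=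
    RingHom.lift_injective_of_ker_le_ideal _ _ (le_of_eq hr.symm)
  letI : Algebra (R ⧸ P) Ω := vb.toAlgebra
  haveI : Module.IsTorsionFree (R ⧸ P) Ω := Module.isTorsionFree_iff_algebraMap_injective.mpr hvb
  haveI : Algebra.IsIntegral (R ⧸ P) (A ⧸ r) := Algebra.IsIntegral.tower_top R
  haveI : Algebra.IsAlgebraic (R ⧸ P) (A ⧸ r) := Algebra.IsIntegral.isAlgebraic
  have hinj : Function.Injective (algebraMap (R ⧸ P) (A ⧸ r)) :=
    RingHom.lift_injective_of_ker_le_ideal _ _ fun x hx => by
      change algebraMap R A x ∈ r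
      exact Ideal.Quotient.eq_zero_iff_mem.mp hx
  haveI : Module.IsTorsionFree (R ⧸ P) (A ⧸ r) := Module.isTorsionFree_iff_algebraMap_injective.mpr hinj
  let l : (A ⧸ r) →ₐ[R ⧸ P] Ω := IsAlgClosed.lift
  refine ⟨l.toRingHom.comp (Ideal.Quotient.mk r), RingHom.ext fun x => ?_, ?_⟩
  · exact l.commutes (Ideal.Quotient.mk P x)
  · rw [← RingHom.comap_ker, show RingHom.ker l.toRingHom = ⊥ from ?_, ← RingHom.ker_eq_comap_bot,
      Ideal.mk_ker]
    refine Ideal.eq_bot_of_comap_eq_bot (R := R ⧸ P) ?_
    rw [RingHom.comap_ker, show l.toRingHom.comp (algebraMap _ _) = vb from l.comp_algebraMap]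
    exact (RingHom.injective_iff_ker_eq_bot vb).mp hvb

variable {R S : Type u} [CommRing R] [CommRing S] [Algebra R S] [Algebra.IsIntegral R S]
  (p : Ideal R) [p.IsPrime] {Ω : Type u} [Field Ω] [IsAlgClosed Ω] [Algebra R Ω]
  [Algebra p.ResidueField Ω] [IsScalarTower R p.ResidueField Ω]

/-- The geometric points over `p` are finite in number, and all their values are purely inseparable
over one finite separable extension. -/
theorem exists_separable_bound
    (hfin : {q : PrimeSpectrum S | q.asIdeal.comap (algebraMap R S) = p}.Finite)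
    (hsep : ∀ (q : PrimeSpectrum S) (hq : q.asIdeal.comap (algebraMap R S) = p),
      letI := (Ideal.ResidueField.map p q.asIdeal (algebraMap R S) hq.symm).toAlgebra
      Module.Finite p.ResidueField (separableClosure p.ResidueField q.asIdeal.ResidueField)) :
    Finite (S →ₐ[R] Ω) ∧ ∃ α : Ω, IsSeparable p.ResidueField α ∧
      ∀ (ξ : S →ₐ[R] Ω) (x : S), ∃ k : ℕ, ξ x ^ ringExpChar p.ResidueField ^ k ∈
        IntermediateField.adjoin p.ResidueField ({α} : Set Ω) := by
  classical
  let K := p.ResidueField
  have hp : p = RingHom.ker (algebraMap R Ω) := by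
    ext r
    rw [RingHom.mem_ker, IsScalarTower.algebraMap_apply R K Ω, map_eq_zero,
      Ideal.algebraMap_residueField_eq_zero]
  have key : ∀ q : PrimeSpectrum S, q.asIdeal.comap (algebraMap R S) = p →
      {ξ : S →ₐ[R] Ω | RingHom.ker ξ = q.asIdeal}.Finite ∧
      ∃ F : Finset Ω, (∀ y ∈ F, IsSeparable K y) ∧ ∀ ξ : S →ₐ[R] Ω, RingHom.ker ξ = q.asIdeal →
        ∀ x, ∃ k : ℕ, ξ x ^ ringExpChar K ^ k ∈ IntermediateField.adjoin K (F : Set Ω) := by
    intro q hq
    letI := (Ideal.ResidueField.map p q.asIdeal (algebraMap R S) hq.symm).toAlgebra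
    haveI : IsScalarTower R K q.asIdeal.ResidueField := IsScalarTower.of_algebraMap_eq fun r => by
      rw [RingHom.algebraMap_toAlgebra, Ideal.ResidueField.map_algebraMap,
        ← IsScalarTower.algebraMap_apply R S]
    let E := q.asIdeal.ResidueField
    haveI : Module.Finite K (separableClosure K E) := hsep q hq
    have hi : ∀ s : S, IsAlgebraic K (algebraMap S E s) := fun s =>
      (((Algebra.IsIntegral.isIntegral (R := R) s).map (IsScalarTower.toAlgHom R S E)).tower_top).isAlgebraic
    haveI : Algebra.IsAlgebraic K E := ⟨fun y => by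
      obtain ⟨a, b, -, rfl⟩ := IsFractionRing.div_surjective (A := S ⧸ q.asIdeal) y
      obtain ⟨a, rfl⟩ := Ideal.Quotient.mk_surjective a
      obtain ⟨b, rfl⟩ := Ideal.Quotient.mk_surjective b
      rw [div_eq_mul_inv]
      exact (hi a).mul (hi b).inv⟩
    haveI : Finite (E →ₐ[K] Ω) := by
      refine Finite.of_injective (fun j : E →ₐ[K] Ω => j.comp (separableClosure K E).val) fun j j' h => ?_
      exact AlgHom.coe_ringHom_injective (IsPurelyInseparable.injective_comp_algebraMap
        (separableClosure K E) E Ω (RingHom.ext fun z => DFunLike.congr_fun h z))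
    have hlift : ∀ ξ : S →ₐ[R] Ω, RingHom.ker ξ = q.asIdeal →
        ∃ j : E →ₐ[K] Ω, ∀ x, j (algebraMap S E x) = ξ x := by
      intro ξ hξ
      let j₀ : E →+* Ω := Ideal.ResidueField.lift q.asIdeal ξ.toRingHom hξ.ge fun x hx =>
        isUnit_iff_ne_zero.2 fun h0 => hx (hξ ▸ h0)
      have hj₀ : ∀ x, j₀ (algebraMap S E x) = ξ x := fun x =>
        Ideal.ResidueField.lift_algebraMap q.asIdeal ξ.toRingHom hξ.ge (fun x hx =>
          isUnit_iff_ne_zero.2 fun h0 => hx (hξ ▸ h0)) x
      refine ⟨{ j₀ with commutes' := fun z => ?_ }, hj₀⟩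
      exact DFunLike.congr_fun (Ideal.ResidueField.ringHom_ext (f := j₀.comp (algebraMap K E))
        (g := algebraMap K Ω) (RingHom.ext fun r => by
          simp only [RingHom.comp_apply]
          rw [← IsScalarTower.algebraMap_apply R K E, IsScalarTower.algebraMap_apply R S E,
            ← IsScalarTower.algebraMap_apply R K Ω]
          exact (hj₀ _).trans (ξ.commutes r))) z
    choose J hJ using hlift
    let bas := Module.finBasis K (separableClosure K E)
    let t : Finset (separableClosure K E) := Finset.univ.image bas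
    haveI : Fintype (E →ₐ[K] Ω) := Fintype.ofFinite _
    refine ⟨?_, Finset.univ.biUnion (fun j : E →ₐ[K] Ω =>
      t.image (fun z : separableClosure K E => j (z : E))), fun y hy => ?_, fun ξ hξ x => ?_⟩
    · exact Set.finite_coe_iff.mp (Finite.of_injective (fun ξ : {ξ : S →ₐ[R] Ω | RingHom.ker ξ = q.asIdeal} =>
        J ξ.1 ξ.2) fun ξ ξ' h => Subtype.ext (AlgHom.ext fun x => by
          rw [← hJ ξ.1 ξ.2 x, ← hJ ξ'.1 ξ'.2 x]
          exact DFunLike.congr_fun h _))
    · obtain ⟨j, -, hy⟩ := Finset.mem_biUnion.mp hy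
      obtain ⟨z, -, rfl⟩ := Finset.mem_image.mp hy
      have := mem_separableClosure_iff.mp z.2
      rw [IsSeparable, ← minpoly.algHom_eq j j.injective (z : E)] at this
      exact this
    · obtain ⟨k, hk⟩ := IsPurelyInseparable.pow_mem (separableClosure K E) (ringExpChar K)
        (algebraMap S E x)
      obtain ⟨z, hz⟩ := hk
      refine ⟨k, ?_⟩
      rw [← hJ ξ hξ x, ← map_pow, ← hz]
      rw [← bas.sum_repr z, map_sum, map_sum]
      refine sum_mem fun i _ => ?_
      rw [show (algebraMap (separableClosure K E) E) (bas.repr z i • bas i) = bas.repr z i • (bas i : E) from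
        rfl, map_smul]
      exact IntermediateField.smul_mem _ (IntermediateField.subset_adjoin K _ (Finset.mem_coe.mpr
        (Finset.mem_biUnion.mpr ⟨J ξ hξ, Finset.mem_univ _,
          Finset.mem_image_of_mem (fun w : separableClosure K E => J ξ hξ (w : E))
            (Finset.mem_image_of_mem bas (Finset.mem_univ i))⟩)))
  choose! hkey F hF hFx using key
  let hs : Set (PrimeSpectrum S) := {q | q.asIdeal.comap (algebraMap R S) = p}
  have hker : ∀ ξ : S →ₐ[R] Ω, ∃ q ∈ hs, RingHom.ker ξ = q.asIdeal := fun ξ => by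
    refine ⟨⟨RingHom.ker ξ, RingHom.ker_isPrime _⟩, ?_, rfl⟩
    change (RingHom.ker ξ).comap (algebraMap R S) = p
    rw [hp]
    ext r
    simp [RingHom.mem_ker]
  refine ⟨Set.finite_univ_iff.mp ((hfin.biUnion hkey).subset fun ξ _ => ?_), ?_⟩
  · obtain ⟨q, hq, he⟩ := hker ξ
    exact Set.mem_biUnion hq he
  · let F' : Finset Ω := hfin.toFinset.biUnion F
    have hF' : ∀ y ∈ F', IsSeparable K y := fun y hy => by
      obtain ⟨q, hq, hy⟩ := Finset.mem_biUnion.mp hy
      exact hF q (hfin.mem_toFinset.mp hq) y hy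
    let E' := IntermediateField.adjoin K (F' : Set Ω)
    haveI : Algebra.IsSeparable K E' := (IntermediateField.isSeparable_adjoin_iff_isSeparable K Ω).mpr hF'
    haveI : FiniteDimensional K E' :=
      IntermediateField.finiteDimensional_adjoin fun y hy => (hF' y hy).isIntegral
    obtain ⟨a, ha⟩ := Field.exists_primitive_element K E'
    have hE : IntermediateField.adjoin K ({(a : Ω)} : Set Ω) = E' := by
      rw [show ({(a : Ω)} : Set Ω) = E'.val '' {a} from (Set.image_singleton).symm,
        ← IntermediateField.adjoin_map, ha, ← AlgHom.fieldRange_eq_map, IntermediateField.fieldRange_val]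
    refine ⟨a, ?_, fun ξ x => ?_⟩
    · have := Algebra.IsSeparable.isSeparable K a
      rw [IsSeparable, ← minpoly.algHom_eq E'.val E'.val.injective a] at this
      exact this
    obtain ⟨q, hq, he⟩ := hker ξ
    obtain ⟨k, hk⟩ := hFx q hq ξ he x
    refine ⟨k, ?_⟩
    rw [hE]
    refine IntermediateField.adjoin.mono K _ _ ?_ hk
    exact Finset.coe_subset.mpr (Finset.subset_biUnion_of_mem F (hfin.mem_toFinset.mpr hq))

end Groth.Agent.EtSplit1380
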