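import Groth.Agent.EtSplit1380.Homs
import Mathlib.RingTheory.Etale.QuasiFinite
import Mathlib.RingTheory.Ideal.GoingUp
import Mathlib.RingTheory.Localization.Away.Basic

/-!
# An étale neighbourhood splitting the geometric points of an integral algebra
-/

universe u

set_option linter.style.haveILetI false
set_option backward.isDefEq.respectTransparency false
set_option backward.isDefEq.respectTransparency.types false

open TensorProduct

namespace Groth.Agent.EtSplit1380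

/-- The value of `R' ⊗[R] S` at a pair of geometric points. -/
noncomputable def pair {R R' S Ω : Type u} [CommRing R] [CommRing R'] [CommRing S] [Field Ω] [Algebra R R']
    [Algebra R S] [Algebra R Ω] (v : R' →ₐ[R] Ω) (ξ : S →ₐ[R] Ω) : R' ⊗[R] S →ₐ[R] Ω :=
  Algebra.TensorProduct.lift v ξ fun _ _ => .all _ _

/-- After an étale extension the geometric points over `p` lie in different idempotent components. -/
theorem exists_split_idempotents {R S : Type u} [CommRing R] [CommRing S] [Algebra R S] [Algebra.IsIntegral R S]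
    {Ω : Type u} [Field Ω] [IsAlgClosed Ω] [Algebra R Ω] {p : Ideal R} [p.IsPrime]
    [Algebra p.ResidueField Ω] [IsScalarTower R p.ResidueField Ω]
    [Finite (S →ₐ[R] Ω)] (α : Ω) (hα : IsSeparable p.ResidueField α)
    (hkey : ∀ (ξ : S →ₐ[R] Ω) (x : S), ∃ k : ℕ, ξ x ^ ringExpChar p.ResidueField ^ k ∈
      IntermediateField.adjoin p.ResidueField ({α} : Set Ω)) :
    ∃ (R' : Type u) (_ : CommRing R') (_ : Algebra R R') (v : R' →ₐ[R] Ω), Algebra.Etale R R' ∧
      (∀ (ξ : S →ₐ[R] Ω) (x : S), ∃ (k : ℕ) (a r : R'), v a ≠ 0 ∧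
        v a * ξ x ^ ringExpChar p.ResidueField ^ k = v r) ∧
      ∃ (m : ℕ) (f : Fin m → R' ⊗[R] S), CompleteOrthogonalIdempotents f ∧
        ∀ j, ∃! ξ : S →ₐ[R] Ω, pair v ξ (f j) ≠ 0 := by
  classical
  let K := p.ResidueField
  haveI : ExpChar K (ringExpChar K) := inferInstance
  haveI : ExpChar Ω (ringExpChar K) := expChar_of_injective_ringHom (algebraMap K Ω).injective _
  -- a finite subalgebra separating the points
  have hw : ∀ P : (S →ₐ[R] Ω) × (S →ₐ[R] Ω), ∃ x : S, P.1 x = P.2 x → P.1 = P.2 := fun P => by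
    by_contra hc
    push Not at hc
    exact (hc 0).2 (AlgHom.ext fun x => (hc x).1)
  choose w hw using hw
  let S₀ : Subalgebra R S := Algebra.adjoin R (Set.range w)
  haveI : Module.Finite R S₀ := Module.Finite.iff_fg.mpr
    (fg_adjoin_of_finite (Set.finite_range w) fun x _ => Algebra.IsIntegral.isIntegral x)
  -- an étale algebra whose point has residue field containing `α`
  obtain ⟨R₀, _, _, _, v₀, c, hc0, hcα⟩ := Weighting.exists_etale_point_mem R p Ω α hα
  let P₀ := RingHom.ker v₀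
  haveI : P₀.IsPrime := RingHom.ker_isPrime v₀
  obtain ⟨R₁, _, _, _, P, _, _, n, e, he, P', _, _, hbij, -, huniq⟩ :=
    Algebra.exists_etale_completeOrthogonalIdempotents_forall_liesOver_eq (R := R₀) (S := R₀ ⊗[R] S₀) P₀
  letI : Algebra R R₁ := .compHom R₁ (algebraMap R R₀)
  haveI : IsScalarTower R R₀ R₁ := .of_algebraMap_eq' rfl
  haveI : Algebra.Etale R R₁ := Algebra.Etale.comp R R₀ R₁
  have hunit₀ : P₀.primeCompl ≤ (IsUnit.submonoid Ω).comap v₀.toRingHom := fun x hx =>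
    isUnit_iff_ne_zero.2 hx
  let j₀ : P₀.ResidueField →+* Ω := Ideal.ResidueField.lift P₀ v₀.toRingHom le_rfl hunit₀
  have hj₀ : ∀ r, j₀ (algebraMap R₀ _ r) = v₀ r :=
    Ideal.ResidueField.lift_algebraMap P₀ v₀.toRingHom le_rfl hunit₀
  let ε := RingEquiv.ofBijective _ hbij
  have hε : ∀ r, ε.symm (algebraMap R₁ P.ResidueField (algebraMap R₀ R₁ r)) = algebraMap R₀ _ r := fun r => by
    rw [RingEquiv.symm_apply_eq]
    show _ = Ideal.ResidueField.mapₐ P₀ P (Algebra.ofId R₀ R₁) (P.over_def P₀) (algebraMap R₀ _ r)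
    simp [Ideal.ResidueField.map_algebraMap, ← IsScalarTower.algebraMap_apply]
  let v₁ : R₁ →ₐ[R] Ω :=
    { toRingHom := j₀.comp (ε.symm.toRingHom.comp (algebraMap R₁ P.ResidueField))
      commutes' := fun r => by
        show j₀ (ε.symm (algebraMap R₁ P.ResidueField (algebraMap R R₁ r))) = _
        rw [IsScalarTower.algebraMap_apply R R₀ R₁, hε, hj₀, v₀.commutes] }
  have hv₁ : ∀ r, v₁ (algebraMap R₀ R₁ r) = v₀ r := fun r => by
    show j₀ (ε.symm (algebraMap R₁ P.ResidueField (algebraMap R₀ R₁ r))) = v₀ r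
    rw [hε, hj₀]
  have hker₁ : RingHom.ker v₁ = P := by
    ext r
    simp only [RingHom.mem_ker]
    show j₀ (ε.symm (algebraMap R₁ P.ResidueField r)) = 0 ↔ _
    rw [map_eq_zero, map_eq_zero_iff _ ε.symm.injective, Ideal.algebraMap_residueField_eq_zero]
  -- values are fractions of the values of `v₁`
  have hfrac : ∀ (ξ : S →ₐ[R] Ω) (x : S), ∃ (k : ℕ) (a r : R₁), v₁ a ≠ 0 ∧
      v₁ a * ξ x ^ ringExpChar K ^ k = v₁ r := by
    intro ξ x
    obtain ⟨k, hk⟩ := hkey ξ x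
    refine ⟨k, ?_⟩
    let j₁ : P.ResidueField →+* Ω := Ideal.ResidueField.lift P v₁.toRingHom hker₁.ge fun y hy =>
      isUnit_iff_ne_zero.2 fun h0 => hy (hker₁ ▸ h0)
    have hj₁ : ∀ y, j₁ (algebraMap R₁ _ y) = v₁ y := fun y =>
      Ideal.ResidueField.lift_algebraMap P v₁.toRingHom hker₁.ge (fun y hy =>
        isUnit_iff_ne_zero.2 fun h0 => hy (hker₁ ▸ h0)) y
    have hKle : ∀ z : K, algebraMap K Ω z ∈ j₁.fieldRange := by
      intro z
      have hover : p = P.comap (algebraMap R R₁) := by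
        rw [← hker₁]
        ext r
        rw [Ideal.mem_comap, RingHom.mem_ker, v₁.commutes, IsScalarTower.algebraMap_apply R K Ω,
          map_eq_zero, Ideal.algebraMap_residueField_eq_zero]
      refine ⟨Ideal.ResidueField.map p P (algebraMap R R₁) hover z, ?_⟩
      exact DFunLike.congr_fun (Ideal.ResidueField.ringHom_ext
        (f := j₁.comp (Ideal.ResidueField.map p P (algebraMap R R₁) hover)) (g := algebraMap K Ω)
        (RingHom.ext fun r => by
          rw [RingHom.comp_apply, RingHom.comp_apply, RingHom.comp_apply,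
            Ideal.ResidueField.map_algebraMap, hj₁, v₁.commutes, ← IsScalarTower.algebraMap_apply])) z
    let F₁ : IntermediateField K Ω := j₁.fieldRange.toIntermediateField hKle
    have hαF : α ∈ F₁ := by
      obtain ⟨y, hy⟩ := hcα
      have : α = j₁ (algebraMap R₁ _ (algebraMap R₀ R₁ y)) / algebraMap R Ω c := by
        rw [hj₁, hv₁, hy, mul_div_cancel_left₀ _ hc0]
      rw [this]
      refine F₁.div_mem ⟨_, rfl⟩ ?_
      rw [IsScalarTower.algebraMap_apply R K Ω]
      exact F₁.algebraMap_mem _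
    obtain ⟨z, hz⟩ := (IntermediateField.adjoin_le_iff.mpr (Set.singleton_subset_iff.mpr hαF) hk :
      ξ x ^ ringExpChar K ^ k ∈ F₁)
    obtain ⟨r, a, ha, rfl⟩ := IsFractionRing.div_surjective (A := R₁ ⧸ P) z
    obtain ⟨r, rfl⟩ := Ideal.Quotient.mk_surjective r
    obtain ⟨a, rfl⟩ := Ideal.Quotient.mk_surjective a
    have ha0 : v₁ a ≠ 0 := by
      intro h0
      refine nonZeroDivisors.ne_zero ha (Ideal.Quotient.eq_zero_iff_mem.mpr ?_)
      rw [← hker₁]
      exact h0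
    refine ⟨a, r, ha0, ?_⟩
    rw [← hz, map_div₀]
    change v₁ a * (j₁ (algebraMap R₁ _ r) / j₁ (algebraMap R₁ _ a)) = v₁ r
    rw [hj₁, hj₁, mul_div_cancel₀ _ ha0]
  -- idempotents over `R₁ ⊗ S`
  let E : R₁ ⊗[R₀] (R₀ ⊗[R] S₀) ≃ₐ[R₁] R₁ ⊗[R] S₀ := Algebra.TensorProduct.cancelBaseChange R R₀ R₁ R₁ S₀
  let ι : R₁ ⊗[R] S₀ →ₐ[R] R₁ ⊗[R] S := Algebra.TensorProduct.map (AlgHom.id R R₁) S₀.val
  let ε' : Fin (n + 1) → R₁ ⊗[R] S := fun i => ι (E (e i))
  have hε' : CompleteOrthogonalIdempotents ε' := (he.map E.toRingEquiv.toRingHom).map ι.toRingHom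
  let Φ : (S →ₐ[R] Ω) → (R₁ ⊗[R₀] (R₀ ⊗[R] S₀) →ₐ[R] Ω) := fun ξ =>
    ((pair v₁ ξ).comp ι).comp (E.toAlgHom.restrictScalars R)
  have hΦe : ∀ ξ z, Φ ξ z = pair v₁ ξ (ι (E z)) := fun ξ z => by
    simp only [Φ, AlgHom.comp_apply, AlgHom.restrictScalars_apply, AlgEquiv.coe_toAlgHom]
  have hΦ : ∀ ξ, (RingHom.ker (Φ ξ)).IsPrime ∧ (RingHom.ker (Φ ξ)).LiesOver P := fun ξ => by
    refine ⟨RingHom.ker_isPrime _, ⟨?_⟩⟩
    rw [← hker₁]
    ext r
    rw [Ideal.mem_comap, RingHom.mem_ker, RingHom.mem_ker, hΦe, E.commutes]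
    simp [ι, pair]
  have hone : ∀ i (ξ ξ' : S →ₐ[R] Ω), pair v₁ ξ (ε' i) ≠ 0 → pair v₁ ξ' (ε' i) ≠ 0 → ξ = ξ' := by
    intro i ξ ξ' h h'
    induction i using Fin.lastCases with
    | last => exact absurd (huniq _ (hΦ ξ).1 (hΦ ξ).2).1 h
    | cast i =>
      have hk : RingHom.ker (Φ ξ) = RingHom.ker (Φ ξ') := by
        rw [(huniq _ (hΦ ξ).1 (hΦ ξ).2).2 i h, (huniq _ (hΦ ξ').1 (hΦ ξ').2).2 i h']
      refine hw (ξ, ξ') ?_
      let x : S₀ := ⟨w (ξ, ξ'), Algebra.subset_adjoin (Set.mem_range_self _)⟩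
      obtain ⟨k, a, r, ha, har⟩ := hfrac ξ x
      have hval : ∀ ζ : S →ₐ[R] Ω, Φ ζ (E.symm (a ⊗ₜ (x ^ ringExpChar K ^ k) - r ⊗ₜ 1)) =
          v₁ a * ζ x ^ ringExpChar K ^ k - v₁ r := fun ζ => by
        rw [hΦe, E.apply_symm_apply]
        simp [ι, pair]
      have h0 : E.symm (a ⊗ₜ (x ^ ringExpChar K ^ k) - r ⊗ₜ 1) ∈ RingHom.ker (Φ ξ) := by
        rw [RingHom.mem_ker, hval, har, sub_self]
      rw [hk, RingHom.mem_ker, hval, sub_eq_zero, ← har] at h0
      exact iterateFrobenius_inj Ω (ringExpChar K) k (mul_left_cancel₀ ha h0.symm)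
  -- kill the components without points
  have hbad : ∀ i, ∃ g : R₁, v₁ g ≠ 0 ∧ ((∀ ξ, pair v₁ ξ (ε' i) = 0) → (g ⊗ₜ[R] (1 : S)) * ε' i = 0) := by
    intro i
    by_cases hi : ∀ ξ, pair v₁ ξ (ε' i) = 0
    swap
    · exact ⟨1, by simp, fun h => absurd h hi⟩
    let I : Ideal (R₁ ⊗[R] S) := Ideal.span {1 - ε' i}
    suffices hle : ¬ I.comap (algebraMap R₁ (R₁ ⊗[R] S)) ≤ P by
      obtain ⟨g, hg, hgP⟩ := SetLike.not_le_iff_exists.mp hle
      refine ⟨g, fun h => hgP (hker₁ ▸ h), fun _ => ?_⟩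
      obtain ⟨y, hy⟩ := Ideal.mem_span_singleton.mp hg
      rw [show g ⊗ₜ[R] (1 : S) = algebraMap R₁ (R₁ ⊗[R] S) g from rfl, hy]
      linear_combination (-y) * (hε'.idem i).eq
    intro hle
    haveI : Algebra.IsIntegral R₁ (R₁ ⊗[R] S) := inferInstance
    obtain ⟨Q, hIQ, hQ, hQP⟩ := Ideal.exists_ideal_over_prime_of_isIntegral (S := R₁ ⊗[R] S) P I hle
    haveI := hQ
    obtain ⟨η, hη, hηQ⟩ := exists_hom_of_prime v₁.toRingHom Q (hQP.trans hker₁.symm)
    let ξ : S →ₐ[R] Ω :=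
      { toRingHom := η.comp (Algebra.TensorProduct.includeRight : S →ₐ[R] R₁ ⊗[R] S).toRingHom
        commutes' := fun r => by
          change η (1 ⊗ₜ algebraMap R S r) = _
          rw [show (1 : R₁) ⊗ₜ[R] algebraMap R S r = algebraMap R₁ (R₁ ⊗[R] S) (algebraMap R R₁ r) by
            rw [← IsScalarTower.algebraMap_apply]
            exact ((Algebra.TensorProduct.includeRight : S →ₐ[R] R₁ ⊗[R] S).commutes r)]
          exact (DFunLike.congr_fun hη _).trans (v₁.commutes r) }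
    have hpair : ∀ z, pair v₁ ξ z = η z := fun z => by
      induction z using TensorProduct.induction_on with
      | zero => simp
      | add a b ha hb => simp [ha, hb]
      | tmul a s =>
        rw [pair, Algebra.TensorProduct.lift_tmul,
          show a ⊗ₜ[R] s = algebraMap R₁ (R₁ ⊗[R] S) a * (1 ⊗ₜ s) by simp, map_mul]
        exact congrArg (· * _) (DFunLike.congr_fun hη a).symm
    have h1 : η (1 - ε' i) = 0 := by
      rw [← RingHom.mem_ker, hηQ]
      exact hIQ (Ideal.mem_span_singleton_self _)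
    rw [map_sub, map_one, ← hpair, hi, sub_zero] at h1
    exact one_ne_zero h1
  choose g hg0 hg using hbad
  let gg : R₁ := ∏ i, g i
  have hgg : v₁ gg ≠ 0 := by
    rw [map_prod, Finset.prod_ne_zero_iff]
    exact fun i _ => hg0 i
  let R' := Localization.Away gg
  haveI : Algebra.Etale R R' := Algebra.Etale.comp R R₁ R'
  have hu : IsUnit (v₁ gg) := isUnit_iff_ne_zero.2 hgg
  let v : R' →ₐ[R] Ω :=
    { toRingHom := IsLocalization.Away.lift gg (g := v₁.toRingHom) hu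
      commutes' := fun r => by
        rw [IsScalarTower.algebraMap_apply R R₁ R']
        exact (IsLocalization.Away.lift_eq gg hu _).trans (v₁.commutes r) }
  have hv : ∀ y, v (algebraMap R₁ R' y) = v₁ y := fun y => IsLocalization.Away.lift_eq gg hu y
  let χ : R₁ ⊗[R] S →ₐ[R] R' ⊗[R] S :=
    Algebra.TensorProduct.map (IsScalarTower.toAlgHom R R₁ R') (AlgHom.id R S)
  have hχ : ∀ ξ z, pair v ξ (χ z) = pair v₁ ξ z := fun ξ z => by
    induction z using TensorProduct.induction_on with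
    | zero => simp
    | add a b ha hb => simp [ha, hb]
    | tmul a s => simp [χ, pair, hv]
  refine ⟨R', inferInstance, inferInstance, v, inferInstance, fun ξ x => ?_, ?_⟩
  · obtain ⟨k, a, r, ha, har⟩ := hfrac ξ x
    exact ⟨k, algebraMap R₁ R' a, algebraMap R₁ R' r, by rwa [hv], by rwa [hv, hv]⟩
  let good := {i : Fin (n + 1) // ∃ ξ, pair v₁ ξ (ε' i) ≠ 0}
  let σ : Fin (Fintype.card good) ≃ good := (Fintype.equivFin good).symm
  have hzero : ∀ i, ¬(∃ ξ, pair v₁ ξ (ε' i) ≠ 0) → χ (ε' i) = 0 := by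
    intro i hi
    have h := congrArg χ (hg i fun ξ => by_contra fun h => hi ⟨ξ, h⟩)
    rw [map_mul, map_zero] at h
    refine (IsUnit.mul_right_eq_zero ?_).mp h
    have hug : IsUnit (algebraMap R₁ R' (g i)) := isUnit_of_dvd_unit
      (map_dvd _ (Finset.dvd_prod_of_mem g (Finset.mem_univ i))) (IsLocalization.Away.algebraMap_isUnit gg)
    change IsUnit (algebraMap R₁ R' (g i) ⊗ₜ[R] (1 : S))
    exact hug.map (Algebra.TensorProduct.includeLeft : R' →ₐ[R] R' ⊗[R] S)
  refine ⟨_, fun j => χ (ε' (σ j).1), ⟨⟨fun j => (hε'.idem _).map χ, fun j j' hjj' => ?_⟩, ?_⟩, fun j => ?_⟩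
  · change χ _ * χ _ = 0
    rw [← map_mul, hε'.ortho (fun h => hjj' (σ.injective (Subtype.ext h))), map_zero]
  · rw [Equiv.sum_comp σ (fun i : good => χ (ε' i.1))]
    have h1 := congrArg χ hε'.complete
    rw [map_sum, map_one, ← Finset.sum_filter_add_sum_filter_not _ (fun i => ∃ ξ, pair v₁ ξ (ε' i) ≠ 0),
      Finset.sum_eq_zero (s := Finset.filter (fun i => ¬∃ ξ, pair v₁ ξ (ε' i) ≠ 0) _)
        (fun i hi => hzero i (Finset.mem_filter.mp hi).2), add_zero] at h1
    rw [← h1]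
    exact (Finset.sum_subtype _ (fun i => by simp) (fun i => χ (ε' i))).symm
  · obtain ⟨ξ, hξ⟩ := (σ j).2
    exact ⟨ξ, by simpa [hχ] using hξ, fun ξ' hξ' => hone _ ξ' ξ (by simpa [hχ] using hξ') hξ⟩

end Groth.Agent.EtSplit1380
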